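import Mathlib.RingTheory.Ideal.Operations
import Mathlib.RingTheory.Ideal.Maps
import Mathlib.LinearAlgebra.Finsupp.LinearCombination
import Mathlib.Algebra.Module.Projective
import Mathlib.Algebra.Exact.Basic
import Mathlib.RingTheory.TensorProduct.Basic
import Mathlib.Algebra.MonoidAlgebra.Basic
import Mathlib.Algebra.CharP.Lemmas
import Mathlib.RingTheory.Nilpotent.Lemmas
import Mathlib.RingTheory.Nilpotent.Basic

/-! Exactness modulo radical ideals over perfect rings. -/

set_option autoImplicit false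

noncomputable section

universe u

namespace Groth.Agent.FrobTor98

open scoped TensorProduct

variable (p : ℕ)

/-- The `p`-th power map as a ring homomorphism when `p = 0`. -/
def powHom [Fact p.Prime] {R : Type*} [CommRing R] (h : (p : R) = 0) : R →+* R where
  toFun x := x ^ p
  map_one' := one_pow p
  map_mul' x y := mul_pow x y p
  map_zero' := zero_pow (Fact.out : p.Prime).ne_zero
  map_add' x y := by
    obtain ⟨r, hr⟩ := exists_add_pow_prime_eq (Fact.out : p.Prime) x y
    rw [hr, h]
    ring

theorem natCast_eq_zero {A R : Type*} [CommRing A] [CommRing R] [Algebra A R] (h : (p : A) = 0) : (p : R) = 0 := by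
  rw [← map_natCast (algebraMap A R), h, map_zero]

theorem bijective_of_inverse [Fact p.Prime] {R : Type*} [CommRing R] (g : R → R) (h : ∀ x, g (x ^ p) = x)
    (hs : Function.Surjective fun x : R => x ^ p) : Function.Bijective fun x : R => x ^ p :=
  ⟨fun x y e => (h x).symm.trans ((congrArg g e).trans (h y)), hs⟩

variable [Fact p.Prime] {Q : Type u} [CommRing Q]

/-- `p`-th roots of multiples of roots stay in the submodule. -/
def Red (M : Type u) [AddCommGroup M] [Module Q M] : Prop :=
  ∀ J : Ideal Q, J.IsRadical → ∀ (g : Q) (z : M),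
    g ^ p • z ∈ J • (⊤ : Submodule Q M) → g • z ∈ J • (⊤ : Submodule Q M)

theorem red_of_projective (M : Type u) [AddCommGroup M] [Module Q M] [Module.Projective Q M] :
    Red p (Q := Q) M := by
  intro J hJ g z hz
  obtain ⟨s, hs⟩ := Module.projective_def.1 (inferInstance : Module.Projective Q M)
  have hco : ∀ (i : M), ∀ w ∈ J • (⊤ : Submodule Q M), s w i ∈ J := by
    intro i w hw
    refine Submodule.smul_induction_on hw (fun r hr m _ => ?_) (fun a b ha hb => ?_)
    · rw [map_smul, Finsupp.smul_apply]; exact J.mul_mem_right _ hr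
    · rw [map_add, Finsupp.add_apply]; exact J.add_mem ha hb
  rw [← hs (g • z), Finsupp.linearCombination_apply]
  refine Submodule.sum_mem _ fun i _ => Submodule.smul_mem_smul ?_ Submodule.mem_top
  have h := hco i _ hz
  rw [map_smul, Finsupp.smul_apply, smul_eq_mul] at h
  rw [map_smul, Finsupp.smul_apply, smul_eq_mul]
  refine hJ ⟨p, ?_⟩
  rw [mul_pow, show (s z i) ^ p = s z i * (s z i) ^ (p - 1) by
    rw [← pow_succ', Nat.sub_add_cancel (Fact.out : p.Prime).one_le], ← mul_assoc]
  exact J.mul_mem_right _ h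

variable (h0 : (p : Q) = 0) (hQ : Function.Bijective fun x : Q => x ^ p)

include h0 hQ in
theorem red_of_algebra (C : Type u) [CommRing C] [Algebra Q C] (hC : Function.Bijective fun x : C => x ^ p) :
    Red p (Q := Q) C := by
  intro J hJ g z hz
  let F := powHom p (natCast_eq_zero p (R := C) h0)
  let σ := RingEquiv.ofBijective F hC
  let τ := RingEquiv.ofBijective (powHom p h0) hQ
  have key : ∀ w ∈ J • (⊤ : Submodule Q C), σ.symm w ∈ J • (⊤ : Submodule Q C) := by
    intro w hw
    refine Submodule.smul_induction_on hw (fun r hr m _ => ?_) (fun a b ha hb => ?_)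
    · have e : σ.symm (r • m) = τ.symm r • σ.symm m := by
        apply σ.injective
        rw [RingEquiv.apply_symm_apply]
        show r • m = (τ.symm r • σ.symm m) ^ p
        rw [smul_pow]
        exact (congrArg₂ (· • ·) (τ.apply_symm_apply r) (σ.apply_symm_apply m)).symm
      rw [e]
      refine Submodule.smul_mem_smul (hJ ⟨p, ?_⟩) Submodule.mem_top
      rwa [show τ.symm r ^ p = r from τ.apply_symm_apply r]
    · rw [map_add]; exact Submodule.add_mem _ ha hb
  have h1 : (g • z) ^ p ∈ J • (⊤ : Submodule Q C) := by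
    rw [smul_pow, show z ^ p = z * z ^ (p - 1) by
      rw [← pow_succ', Nat.sub_add_cancel (Fact.out : p.Prime).one_le], ← smul_mul_assoc]
    refine (Submodule.map_smul'' J ⊤ (LinearMap.mulRight Q (z ^ (p - 1)))).le.trans
      (Submodule.smul_mono le_rfl le_top) (Submodule.mem_map_of_mem hz)
  have h2 := key _ h1
  rwa [show σ.symm ((g • z) ^ p) = g • z from σ.symm_apply_apply (g • z)] at h2

variable {Y : ℕ → Type u} [∀ n, AddCommGroup (Y n)] [∀ n, Module Q (Y n)] (e : ∀ n, Y (n + 1) →ₗ[Q] Y n)
  (he0 : Function.Surjective (e 0)) (hex : ∀ n, Function.Exact (e (n + 1)) (e n)) (hred : ∀ n, Red p (Q := Q) (Y n))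

/-- Exactness modulo an ideal. -/
def ExactMod (J : Ideal Q) : Prop :=
  ∀ n (x : Y (n + 1)), e n x ∈ J • (⊤ : Submodule Q (Y n)) →
    x ∈ LinearMap.range (e (n + 1)) ⊔ J • (⊤ : Submodule Q (Y (n + 1)))

include h0 hQ he0 hex hred in
theorem exactMod_insert {J J' : Ideal Q} (f : Q) (hJ : J.IsRadical) (hJJ' : J ≤ J') (hJ' : J'.IsRadical)
    (hf : f ∈ J') (hgen : ∀ a ∈ J', ∃ m, a ^ (p ^ m) ∈ J ⊔ Ideal.span {f}) (h : ExactMod e J) :
    ExactMod e J' := by
  let τ := RingEquiv.ofBijective (powHom p h0) hQ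
  -- the roots of `f`
  let F : ℕ → Q := fun m => τ.symm^[m] f
  have hF : ∀ m, F (m + 1) ^ p = F m := fun m => by
    show (τ.symm^[m + 1] f) ^ p = _
    rw [Function.iterate_succ_apply']
    exact τ.apply_symm_apply _
  have hFle : ∀ m k, ∃ r, F m = r * F (m + k) := fun m k => by
    induction k with
    | zero => exact ⟨1, (one_mul _).symm⟩
    | succ k ih =>
      obtain ⟨r, hr⟩ := ih
      refine ⟨r * F (m + k + 1) ^ (p - 1), ?_⟩
      rw [hr, mul_assoc, show m + (k + 1) = m + k + 1 from rfl, ← pow_succ,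
        Nat.sub_add_cancel (Fact.out : p.Prime).one_le, hF]
  have hFJ : ∀ m, F m ∈ J' := fun m => by
    induction m with
    | zero => exact hf
    | succ m ih => exact hJ' ⟨p, (hF m).symm ▸ ih⟩
  have hroot : ∀ a ∈ J', ∃ m r, a - r * F m ∈ J := by
    intro a ha
    obtain ⟨m, hm⟩ := hgen a ha
    obtain ⟨j, hj, t, ht, hjt⟩ := Submodule.mem_sup.1 hm
    obtain ⟨r, rfl⟩ := Ideal.mem_span_singleton'.1 ht
    refine ⟨m, τ.symm^[m] r, hJ ⟨p ^ m, ?_⟩⟩
    have hpow : ∀ (i : ℕ) (b : Q), (τ^[i] b) = b ^ p ^ i := fun i b => by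
      induction i with
      | zero => simp
      | succ i ih =>
        rw [Function.iterate_succ_apply', ih]
        show (b ^ p ^ i) ^ p = _
        rw [← pow_mul, ← pow_succ]
    have hsub : (a - τ.symm^[m] r * F m) ^ p ^ m = j := by
      rw [← hpow, iterate_map_sub, iterate_map_mul, hpow m a,
        Function.RightInverse.iterate τ.apply_symm_apply m r, Function.RightInverse.iterate τ.apply_symm_apply m f,
        ← hjt, add_sub_cancel_right]
    rw [hsub]
    exact hj
  intro n x hx
  have hxf : ∃ m y, e n x - F m • y ∈ J • (⊤ : Submodule Q (Y n)) := by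
    generalize e n x = w at hx ⊢
    refine Submodule.smul_induction_on hx (fun a ha z _ => ?_) (fun a b ha hb => ?_)
    · obtain ⟨m, r, hr⟩ := hroot a ha
      refine ⟨m, r • z, ?_⟩
      rw [smul_smul, mul_comm, ← sub_smul]
      exact Submodule.smul_mem_smul hr Submodule.mem_top
    · obtain ⟨m, y, hy⟩ := ha
      obtain ⟨m', y', hy'⟩ := hb
      obtain ⟨r, hr⟩ := hFle m m'
      obtain ⟨r', hr'⟩ := hFle m' m
      rw [add_comm m' m] at hr'
      refine ⟨m + m', r • y + r' • y', ?_⟩
      rw [smul_add, smul_smul, smul_smul, mul_comm _ r, mul_comm _ r', ← hr, ← hr',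
        show a + b - (F m • y + F m' • y') = (a - F m • y) + (b - F m' • y') by abel]
      exact Submodule.add_mem _ hy hy'
  obtain ⟨m, y, hy⟩ := hxf
  have hgy : F (m + 1) • y ∈ LinearMap.range (e n) ⊔ J • (⊤ : Submodule Q (Y n)) := by
    cases n with
    | zero => exact Submodule.mem_sup_left (LinearMap.range_eq_top.2 he0 ▸ Submodule.mem_top)
    | succ l =>
      refine h l _ ?_
      rw [map_smul]
      refine hred l J hJ _ _ ?_
      rw [hF, ← map_smul]
      have h1 := (Submodule.map_smul'' J ⊤ (e l)).le.trans (Submodule.smul_mono le_rfl le_top)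
        (Submodule.mem_map_of_mem hy)
      rw [map_sub, (hex l).apply_apply_eq_zero, zero_sub, Submodule.neg_mem_iff] at h1
      exact h1
  obtain ⟨_, ⟨w, rfl⟩, j, hj, hwj⟩ := Submodule.mem_sup.1 hgy
  have h2 : e n (x - F (m + 1) ^ (p - 1) • w) ∈ J • (⊤ : Submodule Q (Y n)) := by
    rw [map_sub, map_smul, show e n w = F (m + 1) • y - j from eq_sub_of_add_eq hwj, smul_sub, smul_smul,
      ← pow_succ, Nat.sub_add_cancel (Fact.out : p.Prime).one_le, hF,
      show e n x - (F m • y - F (m + 1) ^ (p - 1) • j) = (e n x - F m • y) + F (m + 1) ^ (p - 1) • j by abel]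
    exact Submodule.add_mem _ hy (Submodule.smul_mem _ _ hj)
  have h3 : x - F (m + 1) ^ (p - 1) • w ∈ LinearMap.range (e (n + 1)) ⊔ J' • (⊤ : Submodule Q (Y (n + 1))) :=
    (sup_le_sup (le_refl (LinearMap.range (e (n + 1)))) (Submodule.smul_mono_left hJJ')) (h n _ h2)
  rw [show x = (x - F (m + 1) ^ (p - 1) • w) + F (m + 1) ^ (p - 1) • w by abel]
  refine Submodule.add_mem _ h3 (Submodule.mem_sup_right (Submodule.smul_mem_smul ?_ Submodule.mem_top))
  exact J'.pow_mem_of_mem (hFJ (m + 1)) _ (Nat.sub_pos_of_lt (Fact.out : p.Prime).one_lt)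

theorem isReduced_of_bijective {R : Type*} [CommRing R] (h : Function.Bijective fun x : R => x ^ p) :
    IsReduced R :=
  (isReduced_iff_pow_one_lt p (Fact.out : p.Prime).one_lt).2 fun x hx =>
    h.1 (show x ^ p = (0 : R) ^ p by rw [hx, zero_pow (Fact.out : p.Prime).ne_zero])

include h0 hQ he0 hex hred in
theorem exactMod_radical {J : Ideal Q} (hJ : J.IsRadical) : ExactMod e J := by
  classical
  have hfin : ∀ S : Finset Q, ExactMod e (Ideal.span (S : Set Q)).radical := by
    intro S
    induction S using Finset.induction_on with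
    | empty =>
      intro n x hx
      haveI := isReduced_of_bijective p hQ
      rw [Finset.coe_empty, Ideal.span_empty] at hx ⊢
      have hbot : (⊥ : Ideal Q).radical = ⊥ := nilradical_eq_zero Q
      rw [hbot, Submodule.bot_smul, Submodule.mem_bot] at hx
      exact Submodule.mem_sup_left ((hex n x).1 hx)
    | insert f S _ ih =>
      refine exactMod_insert p h0 hQ e he0 hex hred f (Ideal.radical_isRadical _)
        (Ideal.radical_mono (Ideal.span_mono (by simp))) (Ideal.radical_isRadical _)
        (Ideal.le_radical (Ideal.subset_span (by simp))) (fun a ha => ?_) ih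
      obtain ⟨m, hm⟩ := ha
      refine ⟨m, ?_⟩
      have hle : Ideal.span ((insert f S : Finset Q) : Set Q) ≤
          (Ideal.span (S : Set Q)).radical ⊔ Ideal.span {f} := by
        rw [Finset.coe_insert, Ideal.span_insert, sup_comm]
        exact sup_le_sup_right Ideal.le_radical _
      obtain ⟨k, hk⟩ := Nat.exists_eq_add_of_le (Nat.lt_pow_self (Fact.out : p.Prime).one_lt (n := m)).le
      rw [hk, pow_add]
      exact hle (Ideal.mul_mem_right _ _ hm)
  intro n x hx
  have hS : ∃ S : Finset Q, ↑S ⊆ (J : Set Q) ∧ e n x ∈ (Ideal.span (S : Set Q)) • (⊤ : Submodule Q (Y n)) := by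
    generalize e n x = w at hx ⊢
    refine Submodule.smul_induction_on hx (fun a ha z _ => ?_) (fun a b ha hb => ?_)
    · exact ⟨{a}, by simpa using ha, Submodule.smul_mem_smul (Ideal.subset_span (by simp)) Submodule.mem_top⟩
    · obtain ⟨S, hS, hSa⟩ := ha
      obtain ⟨T, hT, hTb⟩ := hb
      exact ⟨S ∪ T, by simpa using Set.union_subset hS hT, Submodule.add_mem _
        (Submodule.smul_mono_left (Ideal.span_mono (by simp)) hSa)
        (Submodule.smul_mono_left (Ideal.span_mono (by simp)) hTb)⟩
  obtain ⟨S, hS, hx'⟩ := hS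
  exact (sup_le_sup (le_refl (LinearMap.range (e (n + 1))))
    (Submodule.smul_mono_left ((hJ.radical_le_iff).2 (Ideal.span_le.2 hS))))
    (hfin S n x (Submodule.smul_mono_left Ideal.le_radical hx'))

end Groth.Agent.FrobTor98
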