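import Groth.Agent.FrobTor98.Core
import Mathlib.FieldTheory.IsPerfectClosure
import Mathlib.FieldTheory.PerfectClosure
import Mathlib.RingTheory.FinitePresentation
import Mathlib.RingTheory.Ideal.Quotient.Operations
import Mathlib.Algebra.Category.Ring.Under.Basic
import Mathlib.CategoryTheory.Presentable.Finite
import Mathlib.CategoryTheory.ObjectProperty.FullSubcategory
import Mathlib.Algebra.MvPolynomial.CommRing
import Mathlib.RingTheory.MvPolynomial.Basic

/-! Finitely presentable perfect algebras have finitely presented models. -/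

set_option autoImplicit false
set_option backward.isDefEq.respectTransparency false

noncomputable section

universe u

open CategoryTheory CategoryTheory.Limits

namespace Groth.Agent.FrobTor98

variable {p : ℕ} [Fact p.Prime] {B : CommRingCat.{u}}

/-- Perfect algebras over `B`. -/
abbrev PB (p : ℕ) (B : CommRingCat.{u}) :=
  ObjectProperty.FullSubcategory fun Y : Under B => (p : Y.right) = 0 ∧ Function.Bijective fun y : Y.right => y ^ p

/-- A perfect algebra as an object. -/
abbrev mkObj (S : Type u) [CommRing S] (f : B →+* S) (h0 : (p : S) = 0)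
    (hb : Function.Bijective fun y : S => y ^ p) : PB p B :=
  ⟨Under.mk (CommRingCat.ofHom f), ⟨h0, hb⟩⟩

/-- A morphism of perfect algebras. -/
abbrev mkHom {X Y : PB p B} (φ : X.obj.right →+* Y.obj.right) (h : φ.comp X.obj.hom.hom = Y.obj.hom.hom) : X ⟶ Y :=
  ObjectProperty.homMk (Under.homMk (CommRingCat.ofHom φ) (CommRingCat.hom_ext h))

theorem hom_ext {X Y : PB p B} {f g : X ⟶ Y} (h : ∀ x, f.hom.right.hom x = g.hom.right.hom x) : f = g :=
  ObjectProperty.hom_ext _ (Under.UnderMorphism.ext (CommRingCat.hom_ext (RingHom.ext h)))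

theorem mkHom_apply {X Y : PB p B} (φ : X.obj.right →+* Y.obj.right) (h : φ.comp X.obj.hom.hom = Y.obj.hom.hom)
    (x : X.obj.right) : (mkHom φ h).hom.right.hom x = φ x := rfl

theorem id_apply (X : PB p B) (x : X.obj.right) : (𝟙 X : X ⟶ X).hom.right.hom x = x := rfl

theorem comp_apply {X Y Z : PB p B} (f : X ⟶ Y) (g : Y ⟶ Z) (x : X.obj.right) :
    (f ≫ g).hom.right.hom x = g.hom.right.hom (f.hom.right.hom x) := rfl

theorem mkHom_id {X : PB p B} (φ : X.obj.right →+* X.obj.right) (h) (hφ : φ = RingHom.id _) :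
    mkHom φ h = 𝟙 X := hom_ext fun x => by subst hφ; rfl

theorem mkHom_comp {X Y Z : PB p B} (φ : X.obj.right →+* Y.obj.right) (h) (ψ : Y.obj.right →+* Z.obj.right) (h')
    (χ : X.obj.right →+* Z.obj.right) (h'') (e : ψ.comp φ = χ) : mkHom χ h'' = mkHom φ h ≫ mkHom ψ h' :=
  hom_ext fun x => by subst e; rfl

theorem mkHom_natural {X Y Z : PB p B} (φ : X.obj.right →+* Y.obj.right) (h) (ψ : Y.obj.right →+* Z.obj.right) (h')
    (χ : X.obj.right →+* Z.obj.right) (h'') (e : ψ.comp φ = χ) : mkHom φ h ≫ mkHom ψ h' = mkHom χ h'' ≫ 𝟙 Z := by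
  rw [Category.comp_id, mkHom_comp φ h ψ h' χ h'' e]

theorem pow_pn_add {S : Type*} [CommRing S] (h0 : (p : S) = 0) (m : ℕ) (a b : S) :
    (a + b) ^ p ^ m = a ^ p ^ m + b ^ p ^ m := by
  induction m with
  | zero => simp
  | succ m ih =>
    have h : ∀ x y : S, (x + y) ^ p = x ^ p + y ^ p := fun x y => map_add (powHom p h0) x y
    rw [pow_succ, pow_mul, ih, pow_mul, pow_mul]
    exact h _ _

/-- The elements some `p`-power of which is in the subalgebra generated by `G`. -/
def perfSub (S : Type u) [CommRing S] [Algebra B S] (h0 : (p : S) = 0) (G : Set S) : Subalgebra B S where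
  carrier := {a | ∃ m, a ^ p ^ m ∈ Algebra.adjoin B G}
  mul_mem' := by
    rintro a b ⟨m, ha⟩ ⟨n, hb⟩
    refine ⟨m + n, ?_⟩
    rw [mul_pow, pow_add, pow_mul, mul_comm (p ^ m) (p ^ n), pow_mul]
    exact Subalgebra.mul_mem _ (Subalgebra.pow_mem _ ha _) (Subalgebra.pow_mem _ hb _)
  add_mem' := by
    rintro a b ⟨m, ha⟩ ⟨n, hb⟩
    refine ⟨m + n, ?_⟩
    rw [pow_pn_add h0, pow_add, pow_mul, mul_comm (p ^ m) (p ^ n), pow_mul]
    exact Subalgebra.add_mem _ (Subalgebra.pow_mem _ ha _) (Subalgebra.pow_mem _ hb _)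
  algebraMap_mem' b := ⟨0, by rw [pow_zero, pow_one]; exact Subalgebra.algebraMap_mem _ b⟩

theorem mem_perfSub {S : Type u} [CommRing S] [Algebra B S] (h0 : (p : S) = 0) {G : Set S} {a : S} :
    a ∈ perfSub (B := B) S h0 G ↔ ∃ m, a ^ p ^ m ∈ Algebra.adjoin B G := Iff.rfl

theorem perfSub_mono {S : Type u} [CommRing S] [Algebra B S] (h0 : (p : S) = 0) {G G' : Set S} (h : G ⊆ G') :
    perfSub (B := B) S h0 G ≤ perfSub S h0 G' := fun _ ⟨m, hm⟩ => ⟨m, Algebra.adjoin_mono h hm⟩

theorem inclusion_comp {S : Type u} [CommRing S] [Algebra B S] {T T' : Subalgebra B S} (h : T ≤ T') :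
    (Subalgebra.inclusion h).toRingHom.comp (algebraMap B T) = algebraMap B T' :=
  RingHom.ext fun b => (Subalgebra.inclusion h).commutes b

theorem val_comp {S : Type u} [CommRing S] [Algebra B S] (T : Subalgebra B S) :
    T.val.toRingHom.comp (algebraMap B T) = algebraMap B S :=
  RingHom.ext fun b => T.val.commutes b

/-- A finitely presentable perfect algebra is generated by roots of finitely many elements. -/
theorem exists_finset_gen (S : Type u) [CommRing S] [Algebra B S] (h0 : (p : S) = 0)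
    (hb : Function.Bijective fun y : S => y ^ p) [IsFinitelyPresentable.{u} (mkObj S (algebraMap B S) h0 hb)] :
    ∃ G : Finset S, ∀ a, ∃ m, a ^ p ^ m ∈ Algebra.adjoin B (G : Set S) := by
  classical
  let Sub : Finset S → Subalgebra B S := fun G => perfSub S h0 (G : Set S)
  have hmem : ∀ a : S, a ∈ Sub {a} := fun a => (mem_perfSub h0).2 ⟨0, by
    rw [pow_zero, pow_one]; exact Algebra.subset_adjoin (by simp)⟩
  have hmono : ∀ {G G' : Finset S}, G ≤ G' → Sub G ≤ Sub G' := fun h => perfSub_mono h0 (Finset.coe_subset.2 h)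
  have hP0 : ∀ G, (p : Sub G) = 0 := fun G => Subtype.ext ((map_natCast (Sub G).val p).trans h0)
  have hPb : ∀ G, Function.Bijective fun y : Sub G => y ^ p := fun G =>
    ⟨fun x y e => Subtype.ext (hb.1 (congrArg Subtype.val e)), fun y => by
      obtain ⟨x, hx⟩ := hb.2 y.1
      obtain ⟨m, hm⟩ := (mem_perfSub h0).1 y.2
      exact ⟨⟨x, (mem_perfSub h0).2 ⟨m + 1, by rw [pow_succ', pow_mul, show x ^ p = y.1 from hx]; exact hm⟩⟩, Subtype.ext hx⟩⟩
  let D : Finset S ⥤ PB p B :=
    { obj := fun G => mkObj (Sub G) (algebraMap B (Sub G)) (hP0 G) (hPb G)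
      map := fun {G G'} h => mkHom (Subalgebra.inclusion (hmono (leOfHom h))).toRingHom (inclusion_comp (S := S) (hmono (leOfHom h)))
      map_id := fun G => hom_ext fun x => (mkHom_apply _ _ x).trans
        ((Subalgebra.inclusion_self (S := Sub G) ▸ rfl : _ = x).trans (id_apply _ x).symm)
      map_comp := fun {G₁ G₂ G₃} f g => hom_ext fun x => (mkHom_apply _ _ x).trans
        ((comp_apply _ _ x).trans ((mkHom_apply _ _ _).trans
          ((congrArg _ (mkHom_apply _ _ x)).trans (Subalgebra.inclusion_inclusion _ _ x)))).symm }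
  let c : Cocone D :=
    { pt := mkObj S (algebraMap B S) h0 hb
      ι := { app := fun G => mkHom (Sub G).val.toRingHom (val_comp (B := B) (S := S) (Sub G)), naturality := fun G G' h => hom_ext fun x => rfl } }
  have hc : IsColimit c := by
    have key : ∀ (t : Cocone D) (a : S) (G : Finset S) (h : a ∈ Sub G),
        (t.ι.app {a}).hom.right.hom ⟨a, hmem a⟩ = (t.ι.app G).hom.right.hom ⟨a, h⟩ := fun t a G h => by
      have e1 := congr(($(t.w (homOfLE (Finset.subset_union_left : {a} ⊆ {a} ∪ G)))).hom.right.hom ⟨a, hmem a⟩)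
      have e2 := congr(($(t.w (homOfLE (Finset.subset_union_right : G ⊆ {a} ∪ G)))).hom.right.hom ⟨a, h⟩)
      exact e1.symm.trans e2
    let ψ : ∀ t : Cocone D, S →+* t.pt.obj.right := fun t =>
      { toFun := fun a => (t.ι.app {a}).hom.right.hom ⟨a, hmem a⟩
        map_one' := (key t 1 ∅ (Subalgebra.one_mem _)).trans (map_one (t.ι.app ∅).hom.right.hom)
        map_zero' := (key t 0 ∅ (Subalgebra.zero_mem _)).trans (map_zero (t.ι.app ∅).hom.right.hom)
        map_mul' := fun a b => by
          have ha : a ∈ Sub ({a} ∪ {b}) := hmono Finset.subset_union_left (hmem a)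
          have hb' : b ∈ Sub ({a} ∪ {b}) := hmono Finset.subset_union_right (hmem b)
          rw [key t (a * b) _ (Subalgebra.mul_mem _ ha hb'), key t a _ ha, key t b _ hb']
          exact map_mul (t.ι.app ({a} ∪ {b})).hom.right.hom ⟨a, ha⟩ ⟨b, hb'⟩
        map_add' := fun a b => by
          have ha : a ∈ Sub ({a} ∪ {b}) := hmono Finset.subset_union_left (hmem a)
          have hb' : b ∈ Sub ({a} ∪ {b}) := hmono Finset.subset_union_right (hmem b)
          rw [key t (a + b) _ (Subalgebra.add_mem _ ha hb'), key t a _ ha, key t b _ hb']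
          exact map_add (t.ι.app ({a} ∪ {b})).hom.right.hom ⟨a, ha⟩ ⟨b, hb'⟩ }
    exact
      { desc := fun t => mkHom (ψ t) (RingHom.ext fun b =>
          (key t (algebraMap B S b) ∅ (Subalgebra.algebraMap_mem _ b)).trans
            congr($(Under.w (t.ι.app ∅).hom).hom b))
        fac := fun t G => hom_ext fun x => key t x.1 G x.2
        uniq := fun t m hm => hom_ext fun a => congr(($(hm {a})).hom.right.hom ⟨a, hmem a⟩) }
  obtain ⟨G, f, hf⟩ := IsFinitelyPresentable.exists_hom_of_isColimit hc (𝟙 c.pt)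
  refine ⟨G, fun a => ?_⟩
  have h := congr(($hf).hom.right.hom a)
  have e : (f.hom.right.hom a).1 = a := h
  rw [← e]
  exact (mem_perfSub h0).1 (f.hom.right.hom a).2

/-- The relations of a finitely presentable perfect algebra. -/
theorem exists_finset_rel (S : Type u) [CommRing S] [Algebra B S] [CharP S p] [PerfectRing S p] (h0 : (p : S) = 0)
    (hb : Function.Bijective fun y : S => y ^ p) [IsFinitelyPresentable.{u} (mkObj S (algebraMap B S) h0 hb)]
    (R : Type u) [CommRing R] [Algebra B R] [CharP R p] [Algebra.FiniteType B R]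
    (ev : R →ₐ[B] S) (hev : ∀ a, ∃ m r, ev r = a ^ p ^ m) :
    ∃ T : Finset R, (∀ t ∈ T, ev t = 0) ∧ ∀ y, ev y = 0 → y ∈ (Ideal.span (T : Set R)).radical := by
  classical
  let P := PerfectClosure R p
  let of : R →+* P := PerfectClosure.of R p
  let φ : P →+* S := PerfectClosure.lift R p S ev.toRingHom
  have hφ : ∀ r, φ (of r) = ev r := fun r =>
    congr($((PerfectClosure.lift R p S).symm_apply_apply ev.toRingHom) r)
  have hP0 : (p : P) = 0 := CharP.cast_eq_zero P p
  have hPb : Function.Bijective fun y : P => y ^ p := PerfectRing.bijective_frobenius (R := P) (p := p)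
  have hroot : ∀ x : P, ∃ n r, x ^ p ^ n = of r := fun x => by
    obtain ⟨⟨n, r⟩, rfl⟩ := PerfectClosure.mk_surjective R p x
    exact ⟨n, r, (iterate_frobenius (R := P) p n _).symm.trans (PerfectClosure.iterate_frobenius_mk R p n r)⟩
  have hSred : IsReduced S := isReduced_of_bijective p hb
  have hφs : Function.Surjective φ := fun a => by
    obtain ⟨m, r, hr⟩ := hev a
    obtain ⟨x, hx⟩ : ∃ x : P, x ^ p ^ m = of r := by
      obtain ⟨x, hx⟩ := (bijective_iterateFrobenius P p m).2 (of r)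
      exact ⟨x, (iterateFrobenius_def p m x).symm.trans hx⟩
    refine ⟨x, (bijective_iterateFrobenius S p m).1 ?_⟩
    rw [iterateFrobenius_def, iterateFrobenius_def, ← map_pow, hx, hφ, hr]
  let J : Finset {y : R // ev y = 0} → Ideal P := fun T => (Ideal.span ((fun y : {y : R // ev y = 0} => of y.1) '' (T : Set {y : R // ev y = 0}))).radical
  have hJmono : ∀ {T T'}, T ≤ T' → J T ≤ J T' := fun h => Ideal.radical_mono (Ideal.span_mono (Set.image_mono (by exact_mod_cast h)))
  have hJφ : ∀ T, J T ≤ RingHom.ker φ := fun T => by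
    rintro x ⟨m, hm⟩
    have : Ideal.span ((fun y : {y : R // ev y = 0} => of y.1) '' (T : Set _)) ≤ RingHom.ker φ := by
      refine Ideal.span_le.2 ?_
      rintro _ ⟨y, -, rfl⟩
      exact (hφ _).trans y.2
    have h' := this hm
    rw [RingHom.mem_ker, map_pow] at h'
    exact eq_zero_of_pow_eq_zero h'
  have hQ0 : ∀ T, (p : P ⧸ J T) = 0 := fun T => by rw [← map_natCast (Ideal.Quotient.mk (J T)), hP0, map_zero]
  have hQb : ∀ T, Function.Bijective fun y : P ⧸ J T => y ^ p := fun T => by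
    refine ⟨fun x y e => ?_, fun y => ?_⟩
    · obtain ⟨x, rfl⟩ := Ideal.Quotient.mk_surjective x
      obtain ⟨y, rfl⟩ := Ideal.Quotient.mk_surjective y
      refine Ideal.Quotient.eq.2 ((Ideal.radical_isRadical _) ⟨p, ?_⟩)
      have h : (powHom p hP0) (x - y) = powHom p hP0 x - powHom p hP0 y := map_sub _ x y
      rw [show (x - y) ^ p = x ^ p - y ^ p from h]
      exact Ideal.Quotient.eq.1 (((map_pow _ x p).trans e).trans (map_pow _ y p).symm)
    · obtain ⟨y, rfl⟩ := Ideal.Quotient.mk_surjective y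
      obtain ⟨x, hx⟩ := hPb.2 y
      exact ⟨Ideal.Quotient.mk _ x, (map_pow (Ideal.Quotient.mk (J T)) x p).symm.trans (congrArg _ hx)⟩
  let D : Finset {y : R // ev y = 0} ⥤ PB p B :=
    { obj := fun T => mkObj (P ⧸ J T) ((Ideal.Quotient.mk (J T)).comp (of.comp (algebraMap B R))) (hQ0 T) (hQb T)
      map := fun {T T'} h => mkHom (Ideal.Quotient.factor (hJmono (leOfHom h))) rfl
      map_id := fun T => mkHom_id _ _ (Ideal.Quotient.ringHom_ext (RingHom.ext fun x => Ideal.Quotient.factor_mk (hJmono (le_refl T)) x))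
      map_comp := fun f g => mkHom_comp _ _ _ _ _ _ (Ideal.Quotient.ringHom_ext (RingHom.ext fun x =>
        (congrArg _ (Ideal.Quotient.factor_mk (hJmono (leOfHom f)) x)).trans
          ((Ideal.Quotient.factor_mk (hJmono (leOfHom g)) x).trans
            (Ideal.Quotient.factor_mk (hJmono (leOfHom (f ≫ g))) x).symm))) }
  have hstr : ∀ b, φ (of (algebraMap B R b)) = algebraMap B S b := fun b => by rw [hφ, AlgHom.commutes]
  let c : Cocone D :=
    { pt := mkObj S (algebraMap B S) h0 hb
      ι :=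
        { app := fun T => mkHom (Ideal.Quotient.lift (J T) φ (hJφ T)) (RingHom.ext hstr)
          naturality := fun T T' h => mkHom_natural (X := D.obj T) (Y := D.obj T')
            (Z := mkObj S (algebraMap B S) h0 hb) (Ideal.Quotient.factor (hJmono (leOfHom h))) rfl
            (Ideal.Quotient.lift (J T') φ (hJφ T')) (RingHom.ext hstr)
            (Ideal.Quotient.lift (J T) φ (hJφ T)) (RingHom.ext hstr) (Ideal.Quotient.ringHom_ext (RingHom.ext fun x =>
              (congrArg (Ideal.Quotient.lift (J T') φ (hJφ T')) (Ideal.Quotient.factor_mk (hJmono (leOfHom h)) x)).trans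
                ((Ideal.Quotient.lift_mk (J T') φ (hJφ T')).trans (Ideal.Quotient.lift_mk (J T) φ (hJφ T)).symm))) } }
  have hker : ∀ (t : Cocone D) (x : P), φ x = 0 → (t.ι.app ∅).hom.right.hom (Ideal.Quotient.mk _ x) = 0 := by
    intro t x hx
    haveI : IsReduced (((Functor.const (Finset {y : R // ev y = 0})).obj t.pt).obj ∅).obj.right :=
      isReduced_of_bijective p t.pt.property.2
    obtain ⟨n, r, hr⟩ := hroot x
    have hr0 : ev r = 0 := by rw [← hφ, ← hr, map_pow, hx, zero_pow (pow_ne_zero _ (Fact.out : p.Prime).ne_zero)]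
    refine eq_zero_of_pow_eq_zero (n := p ^ n) ?_
    rw [← map_pow]
    refine (congrArg (t.ι.app ∅).hom.right.hom ((map_pow (Ideal.Quotient.mk (J ∅)) x _).symm.trans (congrArg _ hr))).trans ?_
    have e := congr(($(t.w (homOfLE (Finset.empty_subset {(⟨r, hr0⟩ : {y : R // ev y = 0})})))).hom.right.hom
      (Ideal.Quotient.mk _ (of r)))
    refine e.symm.trans ((comp_apply _ _ _).trans ((congrArg _ ?_).trans (map_zero (t.ι.app {(⟨r, hr0⟩ : {y : R // ev y = 0})}).hom.right.hom)))
    refine ((mkHom_apply _ rfl _).trans (Ideal.Quotient.factor_mk (hJmono (Finset.empty_subset _)) (of r))).trans ?_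
    exact Ideal.Quotient.eq_zero_iff_mem.2 (Ideal.le_radical (Ideal.subset_span ⟨_, Finset.mem_singleton_self _, rfl⟩))
  have hw : ∀ (t : Cocone D) T (x : P), (t.ι.app T).hom.right.hom (Ideal.Quotient.mk _ x) =
      (t.ι.app ∅).hom.right.hom (Ideal.Quotient.mk _ x) := fun t T x =>
    congr(($(t.w (homOfLE (Finset.empty_subset T)))).hom.right.hom (Ideal.Quotient.mk _ x))
  have hc : IsColimit c := by
    let ψ : ∀ t : Cocone D, S →+* t.pt.obj.right := fun t =>
      φ.liftOfSurjective hφs ⟨(t.ι.app ∅).hom.right.hom.comp (Ideal.Quotient.mk (J ∅)), fun x hx => hker t x hx⟩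
    have hψ : ∀ t x, ψ t (φ x) = (t.ι.app ∅).hom.right.hom (Ideal.Quotient.mk _ x) := fun t x =>
      RingHom.liftOfRightInverse_comp_apply _ _ _ _ x
    exact
      { desc := fun t => mkHom (ψ t) (RingHom.ext fun b => by
          refine ((congrArg (ψ t) (hstr b)).symm.trans (hψ t _)).trans ?_
          exact congr($(Under.w (t.ι.app ∅).hom).hom b))
        fac := fun t T => hom_ext fun x => by
          obtain ⟨x, rfl⟩ := Ideal.Quotient.mk_surjective x
          exact (hψ t x).trans (hw t T x).symm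
        uniq := fun t m hm => hom_ext fun a => by
          obtain ⟨x, rfl⟩ := hφs a
          exact (congr(($(hm ∅)).hom.right.hom (Ideal.Quotient.mk _ x))).trans (hψ t x).symm }
  obtain ⟨T, f, hf⟩ := IsFinitelyPresentable.exists_hom_of_isColimit hc (𝟙 c.pt)
  obtain ⟨X, hX⟩ := Algebra.FiniteType.out (R := B) (A := R)
  have hz : ∀ i : X, ∃ y : {y : R // ev y = 0}, ∀ T', y ∈ T' → ∀ hT : T ≤ T',
      (D.map (homOfLE hT)).hom.right.hom (f.hom.right.hom (ev i.1)) = Ideal.Quotient.mk (J T') (of i.1) := by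
    intro i
    obtain ⟨w, hw'⟩ := Ideal.Quotient.mk_surjective (f.hom.right.hom (ev i.1))
    have h1 : φ w = ev i.1 := by
      have h := congr(($hf).hom.right.hom (ev i.1))
      rw [show φ w = Ideal.Quotient.lift (J T) φ (hJφ T) (Ideal.Quotient.mk (J T) w) from rfl, hw']
      exact h
    obtain ⟨n, r, hr⟩ := hroot (w - of i.1)
    have hr0 : ev r = 0 := by
      rw [← hφ, ← hr, map_pow, map_sub, h1, hφ, sub_self, zero_pow (pow_ne_zero _ (Fact.out : p.Prime).ne_zero)]
    refine ⟨⟨r, hr0⟩, fun T' hmemT hT => ?_⟩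
    rw [← hw']
    refine Ideal.Quotient.eq.2 ((Ideal.radical_isRadical _) ⟨p ^ n, ?_⟩)
    rw [hr]
    exact Ideal.le_radical (Ideal.subset_span ⟨_, hmemT, rfl⟩)
  choose y hy using hz
  let T' := T ∪ Finset.univ.image y
  have hT : T ≤ T' := Finset.subset_union_left
  let s : S →+* P ⧸ J T' := (f ≫ D.map (homOfLE hT)).hom.right.hom
  have hsB : ∀ b, s (algebraMap B S b) = Ideal.Quotient.mk (J T') (of (algebraMap B R b)) := fun b =>
    congr($(Under.w (f ≫ D.map (homOfLE hT)).hom).hom b)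
  haveI : IsReduced (P ⧸ J T') := isReduced_of_bijective p (hQb T')
  letI : Algebra B (P ⧸ J T') := ((Ideal.Quotient.mk (J T')).comp (of.comp (algebraMap B R))).toAlgebra
  let g₁ : R →ₐ[B] P ⧸ J T' := ⟨s.comp ev.toRingHom, fun b => (congrArg s (ev.commutes b)).trans (hsB b)⟩
  let g₂ : R →ₐ[B] P ⧸ J T' := ⟨(Ideal.Quotient.mk (J T')).comp of, fun b => rfl⟩
  have hg : g₁ = g₂ := AlgHom.ext_of_adjoin_eq_top hX fun x hx =>
    hy ⟨x, hx⟩ T' (Finset.mem_union_right _ (Finset.mem_image_of_mem _ (Finset.mem_univ _))) hT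
  refine ⟨T'.image Subtype.val, fun t ht => ?_, fun z hz0 => ?_⟩
  · obtain ⟨y, -, rfl⟩ := Finset.mem_image.1 ht
    exact y.2
  have hzJ : of z ∈ J T' := by
    rw [← Ideal.Quotient.eq_zero_iff_mem]
    refine (congr($hg z)).symm.trans ?_
    show s (ev z) = 0
    rw [hz0, map_zero]
  obtain ⟨N, hN⟩ := hzJ
  let K := Ideal.span ((T'.image Subtype.val : Finset R) : Set R)
  have hspan : ∀ x ∈ Ideal.span ((fun y : {y : R // ev y = 0} => of y.1) '' (T' : Set _)),
      ∃ M, ∃ a ∈ K, x ^ p ^ M = of a := by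
    intro x hx
    induction hx using Submodule.span_induction with
    | mem x hx =>
      obtain ⟨y, hy', rfl⟩ := hx
      exact ⟨0, y.1, Ideal.subset_span (Finset.mem_coe.2 (Finset.mem_image_of_mem _ hy')), by rw [pow_zero, pow_one]⟩
    | zero => exact ⟨0, 0, K.zero_mem, by rw [pow_zero, pow_one, map_zero]⟩
    | add a b _ _ ha hb =>
      obtain ⟨M, a', ha', ea⟩ := ha
      obtain ⟨M', b', hb', eb⟩ := hb
      refine ⟨M + M', a' ^ p ^ M' + b' ^ p ^ M, K.add_mem (K.pow_mem_of_mem ha' _ (pow_pos (Fact.out : p.Prime).pos _))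
        (K.pow_mem_of_mem hb' _ (pow_pos (Fact.out : p.Prime).pos _)), ?_⟩
      rw [pow_pn_add hP0, map_add, map_pow, map_pow, ← ea, ← eb, ← pow_mul, ← pow_mul, ← pow_add, ← pow_add, add_comm M' M]
    | smul a b _ hb =>
      obtain ⟨M, b', hb', eb⟩ := hb
      obtain ⟨n, r, hr⟩ := hroot a
      refine ⟨M + n, r ^ p ^ M * b' ^ p ^ n, K.mul_mem_left _ (K.pow_mem_of_mem hb' _ (pow_pos (Fact.out : p.Prime).pos _)), ?_⟩
      rw [smul_eq_mul, mul_pow, map_mul, map_pow, map_pow, ← hr, ← eb, ← pow_mul, ← pow_mul, ← pow_add, ← pow_add, add_comm n M]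
  obtain ⟨M, a, ha, hMa⟩ := hspan _ hN
  rw [← pow_mul, ← map_pow] at hMa
  obtain ⟨e, he⟩ := (PerfectClosure.mk_eq_iff R p _ _).1 hMa
  refine ⟨N * p ^ M * p ^ e, ?_⟩
  simp only [zero_add, iterate_frobenius] at he
  rw [pow_mul, he]
  exact K.pow_mem_of_mem ha _ (pow_pos (Fact.out : p.Prime).pos _)

theorem exists_model [CharP B p] (A : PB p B) [IsFinitelyPresentable.{u} A] :
    ∃ (A₀ : Type u) (_ : CommRing A₀) (_ : Algebra B A₀) (_ : Algebra.FinitePresentation B A₀)
      (k : A₀ →+* A.obj.right), k.comp (algebraMap B A₀) = A.obj.hom.hom ∧ IsPRadical k p := by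
  classical
  obtain ⟨h0, hb⟩ := A.property
  letI : Algebra B A.obj.right := A.obj.hom.hom.toAlgebra
  rcases subsingleton_or_nontrivial A.obj.right with hs | hs
  · haveI : Algebra.FinitePresentation B (↑B ⧸ (⊤ : Ideal B)) :=
      Algebra.FinitePresentation.quotient ⟨{1}, by simp⟩
    refine ⟨↑B ⧸ (⊤ : Ideal B), inferInstance, inferInstance, inferInstance,
      Ideal.Quotient.lift ⊤ A.obj.hom.hom (fun _ _ => Subsingleton.elim _ _), RingHom.ext fun b => rfl, ?_⟩
    exact ⟨fun x => ⟨0, 0, Subsingleton.elim _ _⟩, fun x _ => by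
      rw [mem_pNilradical]
      exact ⟨0, Subsingleton.elim _ _⟩⟩
  haveI : CharP A.obj.right p := (CharP.charP_iff_prime_eq_zero (Fact.out : p.Prime)).2 h0
  haveI : PerfectRing A.obj.right p := ⟨hb⟩
  haveI : IsFinitelyPresentable.{u} (mkObj A.obj.right (algebraMap B A.obj.right) h0 hb) :=
    (inferInstance : IsFinitelyPresentable.{u} A)
  obtain ⟨G, hG⟩ := exists_finset_gen (B := B) A.obj.right h0 hb
  let R := MvPolynomial (G : Set A.obj.right) B
  let ev : R →ₐ[B] A.obj.right := MvPolynomial.aeval Subtype.val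
  have hev : ∀ a, ∃ m r, ev r = a ^ p ^ m := fun a => by
    obtain ⟨m, hm⟩ := hG a
    rw [Algebra.adjoin_eq_range, AlgHom.mem_range] at hm
    obtain ⟨r, hr⟩ := hm
    exact ⟨m, r, hr⟩
  haveI : CharP R p := inferInstance
  obtain ⟨T, hT0, hT⟩ := exists_finset_rel A.obj.right h0 hb R ev hev
  let K := Ideal.span (T : Set R)
  have hK : ∀ x ∈ K, ev x = 0 := fun x hx =>
    (Ideal.span_le.2 (fun t ht => hT0 t ht) : K ≤ RingHom.ker ev) hx
  haveI : Algebra.FinitePresentation B R := inferInstance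
  haveI : Algebra.FinitePresentation B (R ⧸ K) := Algebra.FinitePresentation.quotient ⟨T, rfl⟩
  refine ⟨R ⧸ K, inferInstance, inferInstance, inferInstance, (Ideal.Quotient.liftₐ K ev hK).toRingHom,
    RingHom.ext fun b => (Ideal.Quotient.liftₐ K ev hK).commutes b, ?_⟩
  refine ⟨fun x => ?_, fun x hx => ?_⟩
  · obtain ⟨m, r, hr⟩ := hev x
    exact ⟨m, Ideal.Quotient.mk K r, hr⟩
  · obtain ⟨y, rfl⟩ := Ideal.Quotient.mk_surjective x
    rw [pNilradical_prime (Fact.out : p.Prime)]
    obtain ⟨N, hN⟩ := hT y hx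
    exact ⟨N, by rw [← map_pow]; exact Ideal.Quotient.eq_zero_iff_mem.2 hN⟩

end Groth.Agent.FrobTor98
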