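import Groth.Agent.FrobTor98.Core
import Mathlib.Algebra.Category.ModuleCat.Monoidal.Basic
import Mathlib.Algebra.Category.ModuleCat.Projective
import Mathlib.Algebra.Category.ModuleCat.Abelian
import Mathlib.Algebra.Homology.ShortComplex.ModuleCat
import Mathlib.CategoryTheory.Monoidal.Tor
import Mathlib.RingTheory.Flat.Basic
import Mathlib.LinearAlgebra.TensorProduct.RightExactness
import Mathlib.Algebra.MonoidAlgebra.Lift
import Mathlib.Algebra.MonoidAlgebra.Module
import Mathlib.RingTheory.TensorProduct.Basic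
import Mathlib.RingTheory.TensorProduct.Free

/-! Tor-independence of perfect rings. -/

set_option autoImplicit false
set_option backward.isDefEq.respectTransparency false

noncomputable section

universe u

open CategoryTheory CategoryTheory.Limits TensorProduct MonoidalCategory

namespace Groth.Agent.FrobTor98

variable {p : ℕ} [Fact p.Prime] {A B C : Type u} [CommRing A] [CommRing B] [CommRing C] [Algebra A B] [Algebra A C]
  (h0 : (p : A) = 0) (hA : Function.Bijective fun a : A => a ^ p) (hB : Function.Bijective fun b : B => b ^ p)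
  (hC : Function.Bijective fun c : C => c ^ p)

include h0 hA hB in
theorem bijective_monoidAlgebra : Function.Bijective fun x : MonoidAlgebra A B => x ^ p := by
  let τ := RingEquiv.ofBijective (powHom p h0) hA
  let ρ := RingEquiv.ofBijective (powHom p (natCast_eq_zero p (R := B) h0)) hB
  let F := powHom p (natCast_eq_zero p (R := MonoidAlgebra A B) h0)
  let G : MonoidAlgebra A B →+* MonoidAlgebra A B :=
    MonoidAlgebra.liftNCRingHom ((MonoidAlgebra.singleOneRingHom (M := B)).comp τ.symm.toRingHom)
      ((MonoidAlgebra.of A B).comp ρ.symm.toMonoidHom) fun _ _ => Commute.all _ _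
  have hG : ∀ (b : B) (a : A), G (MonoidAlgebra.single b a) = MonoidAlgebra.single (ρ.symm b) (τ.symm a) := by
    intro b a
    refine (MonoidAlgebra.liftNC_single _ _ _ _).trans ?_
    show MonoidAlgebra.single 1 (τ.symm a) * MonoidAlgebra.single (ρ.symm b) 1 = _
    rw [MonoidAlgebra.single_mul_single, one_mul, mul_one]
  refine bijective_of_inverse p G (fun x => ?_) (fun x => ⟨G x, ?_⟩)
  · induction x using MonoidAlgebra.induction_linear with
    | zero => rw [zero_pow (Fact.out : p.Prime).ne_zero, map_zero]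
    | add a b ha hb => rw [show (a + b) ^ p = a ^ p + b ^ p from map_add F a b, map_add, ha, hb]
    | single b a =>
      rw [MonoidAlgebra.single_pow, hG, show τ.symm (a ^ p) = a from τ.symm_apply_apply a,
        show ρ.symm (b ^ p) = b from ρ.symm_apply_apply b]
  · show (G x) ^ p = x
    induction x using MonoidAlgebra.induction_linear with
    | zero => rw [map_zero, zero_pow (Fact.out : p.Prime).ne_zero]
    | add a b ha hb => rw [map_add, show (G a + G b) ^ p = G a ^ p + G b ^ p from map_add F _ _, ha, hb]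
    | single b a =>
      rw [hG, MonoidAlgebra.single_pow, show τ.symm a ^ p = a from τ.apply_symm_apply a,
        show ρ.symm b ^ p = b from ρ.apply_symm_apply b]

include h0 in
theorem bijective_tensor {Q : Type u} [CommRing Q] [Algebra A Q] (hA : Function.Bijective fun a : A => a ^ p)
    (hQ : Function.Bijective fun q : Q => q ^ p) (hC : Function.Bijective fun c : C => c ^ p) :
    Function.Bijective fun x : Q ⊗[A] C => x ^ p := by
  let τ := RingEquiv.ofBijective (powHom p h0) hA
  let ρ := RingEquiv.ofBijective (powHom p (natCast_eq_zero p (R := Q) h0)) hQ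
  let σ := RingEquiv.ofBijective (powHom p (natCast_eq_zero p (R := C) h0)) hC
  let F := powHom p (natCast_eq_zero p (R := Q ⊗[A] C) h0)
  have hρ : ∀ (r : A) (q : Q), ρ.symm (r • q) = τ.symm r • ρ.symm q := fun r q => by
    apply ρ.injective
    rw [RingEquiv.apply_symm_apply]
    show r • q = (τ.symm r • ρ.symm q) ^ p
    rw [smul_pow]
    exact (congrArg₂ (· • ·) (τ.apply_symm_apply r) (ρ.apply_symm_apply q)).symm
  have hσ : ∀ (r : A) (q : C), σ.symm (r • q) = τ.symm r • σ.symm q := fun r q => by
    apply σ.injective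
    rw [RingEquiv.apply_symm_apply]
    show r • q = (τ.symm r • σ.symm q) ^ p
    rw [smul_pow]
    exact (congrArg₂ (· • ·) (τ.apply_symm_apply r) (σ.apply_symm_apply q)).symm
  let G : Q ⊗[A] C →+ Q ⊗[A] C := TensorProduct.liftAddHom
    (AddMonoidHom.mk' (fun q => AddMonoidHom.mk' (fun c => ρ.symm q ⊗ₜ[A] σ.symm c)
        (fun c c' => by rw [map_add, TensorProduct.tmul_add]))
      (fun q q' => by ext c; simp [TensorProduct.add_tmul]))
    (fun r q c => by simp [hρ, hσ, TensorProduct.smul_tmul])
  have hG : ∀ q c, G (q ⊗ₜ c) = ρ.symm q ⊗ₜ[A] σ.symm c := fun q c => rfl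
  refine bijective_of_inverse p G (fun x => ?_) (fun x => ⟨G x, ?_⟩)
  · induction x with
    | zero => rw [zero_pow (Fact.out : p.Prime).ne_zero, map_zero]
    | add a b ha hb => rw [show (a + b) ^ p = a ^ p + b ^ p from map_add F a b, map_add, ha, hb]
    | tmul q c =>
      rw [Algebra.TensorProduct.tmul_pow, hG, show ρ.symm (q ^ p) = q from ρ.symm_apply_apply q,
        show σ.symm (c ^ p) = c from σ.symm_apply_apply c]
  · show (G x) ^ p = x
    induction x with
    | zero => rw [map_zero, zero_pow (Fact.out : p.Prime).ne_zero]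
    | add a b ha hb => rw [map_add, show (G a + G b) ^ p = G a ^ p + G b ^ p from map_add F _ _, ha, hb]
    | tmul q c =>
      rw [hG, Algebra.TensorProduct.tmul_pow, show ρ.symm q ^ p = q from ρ.apply_symm_apply q,
        show σ.symm c ^ p = c from σ.apply_symm_apply c]

include h0 hA hB hC in
theorem isZero_tor (i : ℕ) (hi : 0 < i) :
    IsZero (((Tor (ModuleCat.{u} A) i).obj (ModuleCat.of A B)).obj (ModuleCat.of A C)) := by
  obtain ⟨n, rfl⟩ : ∃ n, i = n + 1 := ⟨i - 1, by omega⟩
  let P := projectiveResolution (ModuleCat.of A C)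
  refine IsZero.of_iso ?_ (P.isoLeftDerivedObj _ (n + 1))
  show IsZero (HomologicalComplex.homology _ (n + 1))
  rw [← HomologicalComplex.exactAt_iff_isZero_homology,
    HomologicalComplex.exactAt_iff' _ (n + 2) (n + 1) n (by simp) (by simp),
    ShortComplex.moduleCat_exact_iff]
  let Q := MonoidAlgebra A B
  have hQ : Function.Bijective fun q : Q => q ^ p := bijective_monoidAlgebra h0 hA hB
  have hQ0 : (p : Q) = 0 := natCast_eq_zero p h0
  let π : Q →ₐ[A] B := MonoidAlgebra.lift A B B (MonoidHom.id B)
  have hπ : Function.Surjective π := fun b => ⟨MonoidAlgebra.of A B b, MonoidAlgebra.lift_of _ _⟩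
  let Y : ℕ → ModuleCat.{u} A := fun m => match m with
    | 0 => ModuleCat.of A C
    | m + 1 => P.complex.X m
  let d : ∀ m, Y (m + 1) →ₗ[A] Y m := fun m => match m with
    | 0 => (P.π.f 0).hom
    | m + 1 => (P.complex.d (m + 1) m).hom
  have hd0 : Function.Surjective (d 0) := (ModuleCat.epi_iff_surjective (P.π.f 0)).1 inferInstance
  have hdex : ∀ m, Function.Exact (d (m + 1)) (d m) := fun m => match m with
    | 0 => (ShortComplex.ShortExact.moduleCat_exact_iff_function_exact (ShortComplex.mk _ _ P.complex_d_comp_π_f_zero)).1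
        (ShortComplex.exact_of_g_is_cokernel _ P.isColimitCokernelCofork)
    | m + 1 => (ShortComplex.ShortExact.moduleCat_exact_iff_function_exact _).1 (P.exact_succ m)
  let Z : ℕ → Type u := fun m => Q ⊗[A] (Y m)
  let e : ∀ m, Z (m + 1) →ₗ[Q] Z m := fun m => (d m).baseChange Q
  have hred : ∀ m, Red p (Q := Q) (Z m) := fun m => match m with
    | 0 => red_of_algebra p hQ0 hQ (Q ⊗[A] C) (bijective_tensor h0 hA hQ hC)
    | m + 1 => by
      haveI : Module.Projective A (P.complex.X m) := (IsProjective.iff_projective _).2 (P.projective m)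
      exact red_of_projective p (Q := Q) (Q ⊗[A] (P.complex.X m))
  have hJ : (RingHom.ker π.toRingHom).IsRadical := by
    haveI := isReduced_of_bijective p hB
    rintro x ⟨m, hm⟩
    rw [RingHom.mem_ker, map_pow] at hm
    exact RingHom.mem_ker.2 (eq_zero_of_pow_eq_zero hm)
  have key := exactMod_radical p hQ0 hQ e (LinearMap.baseChange_surjective Q hd0)
    (fun m => Module.Flat.lTensor_exact Q (hdex m)) hred hJ
  -- pushing to `B`
  let ψ : ∀ m, Q ⊗[A] (Y m) →ₗ[A] B ⊗[A] (Y m) := fun m => π.toLinearMap.rTensor (Y m)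
  have hψd : ∀ m z, ψ m (e m z) = (d m).lTensor B (ψ (m + 1) z) := fun m z => by
    show ((π.toLinearMap.rTensor (Y m)) ∘ₗ (d m).lTensor Q) z =
      ((d m).lTensor B ∘ₗ π.toLinearMap.rTensor (Y (m + 1))) z
    rw [LinearMap.rTensor_comp_lTensor, LinearMap.lTensor_comp_rTensor]
  have hker : ∀ m z, ψ m z = 0 → z ∈ RingHom.ker π.toRingHom • (⊤ : Submodule Q (Z m)) := by
    intro m z hz
    obtain ⟨w, rfl⟩ := (rTensor_exact (Y m) (LinearMap.exact_subtype_ker_map π.toLinearMap) hπ z).1 hz
    clear hz
    induction w using TensorProduct.induction_on with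
    | zero => rw [map_zero]; exact Submodule.zero_mem _
    | add a b ha hb => rw [map_add]; exact Submodule.add_mem _ ha hb
    | tmul q y =>
      rw [LinearMap.rTensor_tmul, Submodule.subtype_apply,
        show (q : Q) ⊗ₜ[A] y = (q : Q) • ((1 : Q) ⊗ₜ[A] y) by rw [TensorProduct.smul_tmul', smul_eq_mul, mul_one]]
      exact Submodule.smul_mem_smul (show (q : Q) ∈ RingHom.ker π.toRingHom from q.2) Submodule.mem_top
  intro x hx
  obtain ⟨x', hx'⟩ := LinearMap.rTensor_surjective (Y (n + 2)) (g := π.toLinearMap) hπ x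
  have h1 := key (n + 1) x' (hker (n + 1) _ ((hψd (n + 1) x').trans ((congrArg ((d (n + 1)).lTensor B) hx').trans hx)))
  obtain ⟨_, ⟨w, rfl⟩, j, hj, hwj⟩ := Submodule.mem_sup.1 h1
  have hj0 : ψ (n + 2) j = 0 := by
    refine Submodule.smul_induction_on hj (fun r hr z _ => ?_) (fun a b ha hb => by rw [map_add, ha, hb, add_zero])
    induction z using TensorProduct.induction_on with
    | zero => rw [smul_zero, map_zero]
    | add a b ha hb => exact (congrArg _ (smul_add r a b)).trans ((map_add (ψ (n + 2)) (r • a) (r • b)).trans ((congrArg₂ (· + ·) (ha trivial) (hb trivial)).trans (add_zero _)))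
    | tmul q y =>
      rw [TensorProduct.smul_tmul', smul_eq_mul]
      show π (r * q) ⊗ₜ[A] y = 0
      rw [map_mul, show π r = 0 from hr, zero_mul, TensorProduct.zero_tmul]
  refine ⟨ψ (n + 3) w, ?_⟩
  rw [← hx']
  show (d (n + 2)).lTensor B (ψ (n + 3) w) = ψ (n + 2) x'
  rw [← hwj]
  exact ((hψd (n + 2) w).symm.trans (add_zero _).symm).trans ((congrArg (ψ (n + 2) _ + ·) hj0.symm).trans (map_add (ψ (n + 2)) _ _).symm)

end Groth.Agent.FrobTor98
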